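import Mathlib
import Cfsg.Agent.Lib.Helper23.ExceptionalTwoChars
import Cfsg.Agent.Lib.Helper23.ExceptionalSimple
import Cfsg.Agent.Lib.Helper82.FullPartVanish
import Cfsg.Agent.Lib.Helper83.SecondOrth
import Cfsg.Agent.Lib.Helper23.SylowEmbed

/-!
# Simple groups of order 4080: no elements of order divisible by 6 or 10

The exceptional characters for the Sylow 17-subgroup have degree 15, the remaining non-principal
character of the principal 17-block has degree 16, all other irreducible characters have degree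
divisible by 17.  Characters of degree 16 vanish on elements of even order, characters of degree 15
on elements of order divisible by 3 or 5; the second orthogonality relation then excludes elements
whose order is even and divisible by 3 or 5.
-/

set_option autoImplicit false
set_option linter.unusedSectionVars false
set_option linter.style.haveILetI false

namespace Cfsg.Agent.Lib.Helper23.G4080

open Cfsg Cfsg.Agent.Lib.Helper23.Exceptional

/-- the arithmetic: the degrees are forced -/
theorem degrees_forced (δ : ℤ) (d dΛ : ℕ) (hδ : δ = 1 ∨ δ = -1) (hd1 : 1 < d) (hd : d ∣ 4080)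
    (hcong : (d : ℤ) ≡ δ [ZMOD 17]) (hdΛ : dΛ ∣ 4080) (hrel : (dΛ : ℤ) = d + δ) :
    d = 16 ∧ dΛ = 15 := by
  have h17 : ¬ 17 ∣ d := by
    intro h
    have h1 : (d : ℤ) % 17 = 0 := by omega
    have h2 : (d : ℤ) % 17 = δ % 17 := hcong
    rcases hδ with h' | h' <;> rw [h'] at h2 <;> omega
  have hd240 : d ∣ 240 := by
    have hcop : Nat.Coprime d 17 :=
      (Nat.Coprime.symm ((Nat.Prime.coprime_iff_not_dvd (by norm_num)).mpr h17))
    have : d ∣ 17 * 240 := by norm_num; exact hd
    exact hcop.dvd_of_dvd_mul_left this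
  have hle : d ≤ 240 := Nat.le_of_dvd (by norm_num) hd240
  have h2 : (d : ℤ) % 17 = δ % 17 := hcong
  have key : ∀ n ∈ Finset.range 241, n ∣ 240 → 1 < n →
      ((n % 17 = 1 ∧ (n + 1) ∣ 4080) ∨ (n % 17 = 16 ∧ (n - 1) ∣ 4080)) → n = 16 := by
    set_option maxRecDepth 100000 in decide
  rcases hδ with h' | h'
  · rw [h'] at h2 hrel
    have h3 : d % 17 = 1 := by omega
    have h4 : dΛ = d + 1 := by omega
    have := key d (Finset.mem_range.mpr (by omega)) hd240 hd1 (Or.inl ⟨h3, by rw [← h4]; exact hdΛ⟩)
    omega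
  · rw [h'] at h2 hrel
    have h3 : d % 17 = 16 := by omega
    have h4 : dΛ = d - 1 := by omega
    have h5 := key d (Finset.mem_range.mpr (by omega)) hd240 hd1
      (Or.inr ⟨h3, by rw [← h4]; exact hdΛ⟩)
    exact ⟨h5, by omega⟩

theorem factorization_4080_two : (4080 : ℕ).factorization 2 = 4 := by
  apply le_antisymm
  · by_contra hlt
    have : 2 ^ 5 ∣ 4080 :=
      (Nat.prime_two.pow_dvd_iff_le_factorization (by norm_num)).2 (by omega)
    norm_num at this
  · exact (Nat.prime_two.pow_dvd_iff_le_factorization (by norm_num)).1 (by norm_num)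

theorem factorization_4080_three : (4080 : ℕ).factorization 3 = 1 := by
  apply le_antisymm
  · by_contra hlt
    have : 3 ^ 2 ∣ 4080 :=
      (Nat.prime_three.pow_dvd_iff_le_factorization (by norm_num)).2 (by omega)
    norm_num at this
  · exact (Nat.prime_three.pow_dvd_iff_le_factorization (by norm_num)).1 (by norm_num)

theorem factorization_4080_five : (4080 : ℕ).factorization 5 = 1 := by
  apply le_antisymm
  · by_contra hlt
    have : 5 ^ 2 ∣ 4080 :=
      (Nat.prime_five.pow_dvd_iff_le_factorization (by norm_num)).2 (by omega)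
    norm_num at this
  · exact (Nat.prime_five.pow_dvd_iff_le_factorization (by norm_num)).1 (by norm_num)

theorem charDegree_of_apply_one {G : Type*} [Group G] (χ : G → ℂ) (n : ℕ) (h : χ 1 = n) :
    charDegree χ = n := by
  unfold charDegree
  rw [h]
  simp

/-- In a simple group of order 4080 no element has order divisible by 2 and by 3 or 5. -/
theorem no_mixed {G : Type*} [Group G] [Finite G] [IsSimpleGroup G] (h : Nat.card G = 4080)
    (P : Sylow 17 G) [Fact (Nat.Prime 17)]
    (hP : Nat.card (P : Subgroup G) = 17)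
    (hCP : Nat.card (Subgroup.centralizer ((P : Subgroup G) : Set G)) = 17)
    (hN : Nat.card (Subgroup.normalizer ((P : Subgroup G) : Set G)) = 17 * 2)
    (y : G) (h2 : 2 ∣ orderOf y) (h35 : 3 ∣ orderOf y ∨ 5 ∣ orderOf y) : False := by
  classical
  have hnc : ¬ IsMulCommutative G :=
    Cfsg.Agent.Lib.Helper23.not_isMulCommutative_of_simple (by rw [h]; norm_num)
  letI : Fintype G := Fintype.ofFinite G
  haveI : Finite (IrrCharacter G) := Cfsg.Agent.Lib.Helper05.finite_irrCharacter
  letI : Fintype (IrrCharacter G) := Fintype.ofFinite _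
  have hcyc : IsCyclic (P : Subgroup G) := isCyclic_of_prime_card hP
  have hPle : (P : Subgroup G) ≤ Subgroup.centralizer ((P : Subgroup G) : Set G) := by
    intro x hx
    rw [Subgroup.mem_centralizer_iff]
    intro y hy
    have := (IsCyclic.isMulCommutative (α := ↥(P : Subgroup G))).is_comm.comm ⟨y, hy⟩ ⟨x, hx⟩
    exact congrArg Subtype.val this
  have hCPeq : Subgroup.centralizer ((P : Subgroup G) : Set G) = (P : Subgroup G) :=
    (Subgroup.eq_of_le_of_card_ge hPle (by rw [hP, hCP])).symm
  obtain ⟨X, E, δ, d, dΛ, s, hX1, hE1, hall, hδ, hd1, hddvd, hcong, hdΛ0, hdΛdvd, hrel, -⟩ :=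
    exists_exceptional_two_chars (P : Subgroup G) 17 hP hCPeq hN (by norm_num)
      (linear_trivial_of_simple hnc)
  rw [h] at hddvd hdΛdvd
  obtain ⟨rfl, rfl⟩ := degrees_forced δ d dΛ hδ hd1 hddvd (by exact_mod_cast hcong) hdΛdvd hrel
  -- vanishing
  have hXy : (X : G → ℂ) y = 0 := by
    apply Cfsg.Agent.Lib.Helper82.eq_zero_of_full_part X Nat.prime_two _ y h2
    rw [h, factorization_4080_two, charDegree_of_apply_one _ 16 (by exact_mod_cast hX1)]
    norm_num
  have hEy : ∀ L ∈ E, (L : G → ℂ) y = 0 := by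
    intro L hL
    rcases h35 with h3 | h5
    · apply Cfsg.Agent.Lib.Helper82.eq_zero_of_full_part L Nat.prime_three _ y h3
      rw [h, factorization_4080_three, charDegree_of_apply_one _ 15 (by exact_mod_cast hE1 L hL)]
      norm_num
    · apply Cfsg.Agent.Lib.Helper82.eq_zero_of_full_part L Nat.prime_five _ y h5
      rw [h, factorization_4080_five, charDegree_of_apply_one _ 15 (by exact_mod_cast hE1 L hL)]
      norm_num
  have hy1 : y ≠ 1 := by
    intro hy
    rw [hy, orderOf_one] at h2
    norm_num at h2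
  have hsum := Cfsg.Agent.Lib.Helper83.sum_irr_degree_mul y
  rw [if_neg hy1] at hsum
  set T := Cfsg.Agent.Lib.Helper83.trivChar G with hT
  -- each term other than the trivial one is `17` times an algebraic integer
  have hterm : ∀ ψ : IrrCharacter G, ∃ β : ℂ, IsIntegral ℤ β ∧
      (ψ : G → ℂ) 1 * (ψ : G → ℂ) y = (if ψ = T then 1 else 0) + 17 * β := by
    intro ψ
    by_cases hψT : ψ = T
    · refine ⟨0, isIntegral_zero, ?_⟩
      rw [if_pos hψT, hψT]
      show (1 : ℂ) * 1 = 1 + 17 * 0
      ring
    rw [if_neg hψT]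
    rcases hall ψ with h1 | h1 | h1 | ⟨b, hb⟩
    · exact absurd h1 hψT
    · refine ⟨0, isIntegral_zero, ?_⟩
      rw [h1, hXy]; ring
    · refine ⟨0, isIntegral_zero, ?_⟩
      rw [hEy ψ h1]; ring
    · refine ⟨b * (ψ : G → ℂ) y, ?_, ?_⟩
      · exact IsIntegral.mul (isIntegral_algebraMap (R := ℤ) (A := ℂ) (x := b))
          (Cfsg.Agent.Lib.Helper82.IsCharacter.isIntegral
            (Cfsg.Agent.Lib.Helper05.IsIrrCharacter.isCharacter ψ.2) y)
      · rw [hb]; push_cast; ring
  choose β hβint hβ using hterm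
  have hsum2 : (0 : ℂ) = 1 + 17 * ∑ ψ : IrrCharacter G, β ψ := by
    rw [← hsum, Finset.mul_sum]
    rw [Finset.sum_congr rfl (fun ψ _ => hβ ψ), Finset.sum_add_distrib]
    simp
  have hint : IsIntegral ℤ (∑ ψ : IrrCharacter G, β ψ) :=
    IsIntegral.sum _ (fun ψ _ => hβint ψ)
  -- a rational algebraic integer is an integer
  have hrat : (∑ ψ : IrrCharacter G, β ψ) = ((-1 / 17 : ℚ) : ℂ) := by
    push_cast
    linear_combination (-1 / 17 : ℂ) * hsum2
  rw [hrat] at hint
  have hint' : IsIntegral ℤ (-1 / 17 : ℚ) := by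
    have := hint
    rwa [show ((-1 / 17 : ℚ) : ℂ) = algebraMap ℚ ℂ (-1 / 17 : ℚ) from rfl,
      isIntegral_algebraMap_iff (algebraMap ℚ ℂ).injective] at this
  obtain ⟨n, hn⟩ := IsIntegrallyClosed.isIntegral_iff.mp hint'
  have hn' : (n : ℚ) = -1 / 17 := by simpa using hn
  have : (17 : ℚ) * n = -1 := by rw [hn']; norm_num
  have h17 : (17 : ℤ) * n = -1 := by exact_mod_cast this
  omega

end Cfsg.Agent.Lib.Helper23.G4080
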