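import Mathlib
import Cfsg.Agent.Lib.Helper23.G4080.Chars
import Cfsg.Agent.Lib.Helper23.SylowPerm
import Cfsg.Agent.Lib.Helper23.SylowInter
import Cfsg.Agent.Lib.Helper23.SylowEmbed
import Cfsg.Agent.Lib.Helper23.SylowCount
import Cfsg.Agent.Lib.Helper23.SylowPrime2
import Cfsg.Agent.Lib.Helper23.Burnside
import Cfsg.Agent.Lib.Helper23.ConjClass
import Cfsg.Agent.Lib.Helper23.Counting

/-!
# Simple groups of order 4080: local structure

Sylow 17-, 5- and 3-subgroups, and the count showing that all non-identity 2-elements are conjugate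
involutions.
-/

set_option autoImplicit false
set_option linter.unusedSectionVars false
set_option linter.style.haveILetI false

namespace Cfsg.Agent.Lib.Helper23.G4080

open Cfsg Cfsg.Agent.Lib.Helper23 Cfsg.Agent.Lib.Helper23.SylowPerm

variable {G : Type*} [Group G] [Finite G] [IsSimpleGroup G]

/-- data of the Sylow 17-subgroups -/
theorem sylow17 (h : Nat.card G = 4080) [Fact (Nat.Prime 17)] (P : Sylow 17 G) :
    Nat.card (P : Subgroup G) = 17 ∧
    Nat.card (Subgroup.centralizer ((P : Subgroup G) : Set G)) = 17 ∧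
    Nat.card (Subgroup.normalizer ((P : Subgroup G) : Set G)) = 17 * 2 ∧
    Nat.card (Sylow 17 G) = 120 := by
  have hnc : ¬ IsMulCommutative G := not_isMulCommutative_of_simple (by rw [h]; norm_num)
  have h' : Nat.card G = 17 ^ 1 * 240 := by rw [h]; norm_num
  have hm : ¬ 17 ∣ 240 := by norm_num
  have hcP : Nat.card ↥(P : Subgroup G) = 17 := by
    have := sylow_card_of_card_eq 17 1 240 h' hm P
    simpa using this
  have hdvd := card_sylow_dvd_of_card_eq 17 1 240 h' hm
  have hmod := card_sylow_modEq_one 17 G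
  have h17 : 17 ∣ Nat.card G := by rw [h]; norm_num
  have hne1 := card_sylow_ne_one_of_simple 17 P (by rw [hcP]; norm_num) (by rw [hcP, h]; norm_num)
  have hN := card_normalizer_mul_card_sylow 17 P
  rw [h] at hN
  have hrel := relIndex_centralizer_normalizer_dvd_pred 17 (P : Subgroup G) hcP
  have hmul := card_centralizer_mul_relIndex (P : Subgroup G)
  have hd1 : (Subgroup.centralizer ((P : Subgroup G) : Set G)).relIndex
      (Subgroup.normalizer ((P : Subgroup G) : Set G)) ≠ 1 := by
    intro hd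
    rw [Subgroup.relIndex_eq_one] at hd
    exact false_of_normalizer_le_centralizer hnc 17 h17 P hd
  have hd16 := Nat.le_of_dvd (by norm_num) hrel
  set d := (Subgroup.centralizer ((P : Subgroup G) : Set G)).relIndex
      (Subgroup.normalizer ((P : Subgroup G) : Set G)) with hd
  set c := Nat.card ↥(Subgroup.centralizer ((P : Subgroup G) : Set G)) with hc
  have key : ∀ n ∈ Finset.range 241, n ∣ 240 → n % 17 = 1 → n = 1 ∨ n = 120 := by
    set_option maxRecDepth 100000 in decide
  have hle := Nat.le_of_dvd (by norm_num) hdvd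
  rcases key _ (Finset.mem_range.mpr (by omega)) hdvd hmod with h1 | h1
  · exact absurd h1 hne1
  · rw [h1] at hN
    have hNc : Nat.card ↥(Subgroup.normalizer ((P : Subgroup G) : Set G)) = 34 := by omega
    rw [hNc] at hmul
    have h17c : 17 ∣ c := by
      rw [hc]
      have hle' : (P : Subgroup G) ≤ Subgroup.centralizer ((P : Subgroup G) : Set G) := ?_
      · have := Subgroup.card_dvd_of_le hle'
        rwa [hcP] at this
      intro x hx
      rw [Subgroup.mem_centralizer_iff]
      intro y hy
      have hcyc : IsCyclic (P : Subgroup G) := isCyclic_of_prime_card hcP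
      have := (IsCyclic.isMulCommutative (α := ↥(P : Subgroup G))).is_comm.comm ⟨y, hy⟩ ⟨x, hx⟩
      exact congrArg Subtype.val this
    have hc17 : c = 17 := by
      norm_num at hrel
      obtain ⟨k, hk⟩ := h17c
      rw [hk] at hmul
      have hk2 : k * d = 2 := by nlinarith
      have hkpos : 0 < k := by
        rcases Nat.eq_zero_or_pos k with h0 | h0
        · rw [h0] at hk2; omega
        · exact h0
      have hdle : d ≤ 2 := by nlinarith
      have hdpos : 0 < d := by
        rcases Nat.eq_zero_or_pos d with h0 | h0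
        · rw [h0] at hk2; omega
        · exact h0
      interval_cases d
      · exact absurd rfl hd1
      · omega
    exact ⟨hcP, hc17, by rw [hNc], h1⟩

/-- an element whose order is divisible by 17 has order 17 -/
theorem orderOf_eq_of_dvd17 (h : Nat.card G = 4080) [Fact (Nat.Prime 17)] (g : G)
    (hg : 17 ∣ orderOf g) : orderOf g = 17 := by
  obtain ⟨m, hm⟩ := hg
  have hpos : 0 < orderOf g := orderOf_pos g
  have hmpos : 0 < m := by
    rcases Nat.eq_zero_or_pos m with h0 | h0
    · rw [h0, mul_zero] at hm; omega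
    · exact h0
  set u := g ^ m with hu
  have hu17 : orderOf u = 17 := by
    rw [hu, orderOf_pow' g hmpos.ne', hm, Nat.gcd_mul_left_left, Nat.mul_div_cancel _ hmpos]
  have hgrp : IsPGroup 17 ↥(Subgroup.zpowers u) := by
    apply IsPGroup.of_card (n := 1)
    rw [Nat.card_zpowers, hu17, pow_one]
  obtain ⟨P, hP⟩ := hgrp.exists_le_sylow
  obtain ⟨hcP, hcC, -, -⟩ := sylow17 h P
  have heq : Subgroup.zpowers u = (P : Subgroup G) :=
    Subgroup.eq_of_le_of_card_ge hP (by rw [hcP, Nat.card_zpowers, hu17])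
  have hgC : g ∈ Subgroup.centralizer ((P : Subgroup G) : Set G) := by
    rw [Subgroup.mem_centralizer_iff]
    intro y hy
    rw [← heq] at hy
    obtain ⟨k, rfl⟩ := Subgroup.mem_zpowers_iff.mp hy
    have : Commute g u := (Commute.refl g).pow_right m
    exact (this.zpow_right k).eq.symm
  have hdvd : orderOf g ∣ 17 := by
    rw [← hcC]
    have := orderOf_dvd_natCard (⟨g, hgC⟩ : Subgroup.centralizer ((P : Subgroup G) : Set G))
    rwa [Subgroup.orderOf_mk] at this
  rcases (Nat.dvd_prime (by norm_num)).mp hdvd with h1 | h1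
  · rw [h1] at hm; omega
  · exact h1


/-- no element has even order divisible by 3 or 5 -/
theorem no_mixed' (h : Nat.card G = 4080) (y : G) (h2 : 2 ∣ orderOf y)
    (h35 : 3 ∣ orderOf y ∨ 5 ∣ orderOf y) : False := by
  have : Fact (Nat.Prime 17) := ⟨by norm_num⟩
  obtain ⟨P⟩ : Nonempty (Sylow 17 G) := inferInstance
  obtain ⟨h1, h2', h3, -⟩ := sylow17 h P
  exact no_mixed h P h1 h2' h3 y h2 h35

omit [Finite G] [IsSimpleGroup G] in
/-- an element of prime order `q` in the centralizer of a subgroup containing an element of order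
`r` prime to `q` gives an element of order `r * q` -/
theorem exists_orderOf_mul (Q : Subgroup G) [Finite ↥(Subgroup.centralizer (Q : Set G))]
    (x : G) (hx : x ∈ Q) (r q : ℕ) [Fact q.Prime]
    (hr : orderOf x = r) (hrq : r.Coprime q)
    (hq : q ∣ Nat.card ↥(Subgroup.centralizer (Q : Set G))) : ∃ y : G, orderOf y = r * q := by
  obtain ⟨w, hw⟩ := exists_prime_orderOf_dvd_card' q hq
  have hwq : orderOf (w : G) = q := by rw [Subgroup.orderOf_coe]; exact hw
  have hcomm : x * (w : G) = (w : G) * x := Subgroup.mem_centralizer_iff.mp w.2 x hx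
  refine ⟨x * (w : G), ?_⟩
  rw [orderOf_mul_of_commute_coprime x (w : G) hcomm (by rw [hr, hwq]; exact hrq), hr, hwq]

theorem dvd_sixteen_of (n : ℕ) (hn : n ∣ 4080) (h3 : ¬ 3 ∣ n) (h5 : ¬ 5 ∣ n) (h17 : ¬ 17 ∣ n) :
    n ∣ 16 := by
  have c3 : Nat.Coprime n 3 :=
    (Nat.Coprime.symm ((Nat.Prime.coprime_iff_not_dvd (by norm_num)).mpr h3))
  have c5 : Nat.Coprime n 5 :=
    (Nat.Coprime.symm ((Nat.Prime.coprime_iff_not_dvd (by norm_num)).mpr h5))
  have c17 : Nat.Coprime n 17 :=
    (Nat.Coprime.symm ((Nat.Prime.coprime_iff_not_dvd (by norm_num)).mpr h17))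
  have c : Nat.Coprime n (3 * 5 * 17) := (c3.mul_right c5).mul_right c17
  have : n ∣ 16 * (3 * 5 * 17) := by norm_num; exact hn
  exact c.dvd_of_dvd_mul_right this

theorem dvd_fifteen_of (n : ℕ) (hn : n ∣ 4080) (h2 : ¬ 2 ∣ n) (h17 : ¬ 17 ∣ n) :
    n ∣ 15 := by
  have c2 : Nat.Coprime n 2 :=
    (Nat.Coprime.symm ((Nat.Prime.coprime_iff_not_dvd (by norm_num)).mpr h2))
  have c17 : Nat.Coprime n 17 :=
    (Nat.Coprime.symm ((Nat.Prime.coprime_iff_not_dvd (by norm_num)).mpr h17))
  have c : Nat.Coprime n (2 ^ 4 * 17) := (c2.pow_right 4).mul_right c17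
  have : n ∣ 15 * (2 ^ 4 * 17) := by norm_num; exact hn
  exact c.dvd_of_dvd_mul_right this

/-- the centralizer of a subgroup containing an element of order 3 or 5 has order dividing 15 -/
theorem card_centralizer_dvd_fifteen (h : Nat.card G = 4080) (Q : Subgroup G) (x : G)
    (hx : x ∈ Q) (hr : orderOf x = 3 ∨ orderOf x = 5) :
    Nat.card ↥(Subgroup.centralizer (Q : Set G)) ∣ 15 := by
  have : Fact (Nat.Prime 17) := ⟨by norm_num⟩
  have : Fact (Nat.Prime 2) := ⟨by norm_num⟩
  apply dvd_fifteen_of
  · rw [← h]; exact Subgroup.card_subgroup_dvd_card _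
  · intro h2
    rcases hr with hr | hr
    · obtain ⟨y, hy⟩ := exists_orderOf_mul Q x hx 3 2 hr (by norm_num) h2
      exact no_mixed' h y (by rw [hy]; norm_num) (Or.inl (by rw [hy]; norm_num))
    · obtain ⟨y, hy⟩ := exists_orderOf_mul Q x hx 5 2 hr (by norm_num) h2
      exact no_mixed' h y (by rw [hy]; norm_num) (Or.inr (by rw [hy]; norm_num))
  · intro h17
    rcases hr with hr | hr
    · obtain ⟨y, hy⟩ := exists_orderOf_mul Q x hx 3 17 hr (by norm_num) h17
      have := orderOf_eq_of_dvd17 h y (by rw [hy]; norm_num)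
      omega
    · obtain ⟨y, hy⟩ := exists_orderOf_mul Q x hx 5 17 hr (by norm_num) h17
      have := orderOf_eq_of_dvd17 h y (by rw [hy]; norm_num)
      omega

/-- the centralizer of a subgroup containing an involution has order dividing 16 -/
theorem card_centralizer_dvd_sixteen (h : Nat.card G = 4080) (Q : Subgroup G) (x : G)
    (hx : x ∈ Q) (hr : orderOf x = 2) :
    Nat.card ↥(Subgroup.centralizer (Q : Set G)) ∣ 16 := by
  have : Fact (Nat.Prime 17) := ⟨by norm_num⟩
  have : Fact (Nat.Prime 3) := ⟨by norm_num⟩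
  have : Fact (Nat.Prime 5) := ⟨by norm_num⟩
  apply dvd_sixteen_of
  · rw [← h]; exact Subgroup.card_subgroup_dvd_card _
  · intro h3
    obtain ⟨y, hy⟩ := exists_orderOf_mul Q x hx 2 3 hr (by norm_num) h3
    exact no_mixed' h y (by rw [hy]; norm_num) (Or.inl (by rw [hy]; norm_num))
  · intro h5
    obtain ⟨y, hy⟩ := exists_orderOf_mul Q x hx 2 5 hr (by norm_num) h5
    exact no_mixed' h y (by rw [hy]; norm_num) (Or.inr (by rw [hy]; norm_num))
  · intro h17
    obtain ⟨y, hy⟩ := exists_orderOf_mul Q x hx 2 17 hr (by norm_num) h17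
    have := orderOf_eq_of_dvd17 h y (by rw [hy]; norm_num)
    omega


/-- data of the Sylow 5-subgroups -/
theorem sylow5 (h : Nat.card G = 4080) [Fact (Nat.Prime 5)] (Q : Sylow 5 G) :
    Nat.card (Q : Subgroup G) = 5 ∧
    Nat.card (Subgroup.centralizer ((Q : Subgroup G) : Set G)) = 15 ∧
    Nat.card (Sylow 5 G) = 136 := by
  have hnc : ¬ IsMulCommutative G := not_isMulCommutative_of_simple (by rw [h]; norm_num)
  have h' : Nat.card G = 5 ^ 1 * 816 := by rw [h]; norm_num
  have hm : ¬ 5 ∣ 816 := by norm_num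
  have hcQ : Nat.card ↥(Q : Subgroup G) = 5 := by
    have := sylow_card_of_card_eq 5 1 816 h' hm Q
    simpa using this
  have hmod := card_sylow_modEq_one 5 G
  have hpG : 5 ∣ Nat.card G := by rw [h]; norm_num
  have hN := card_normalizer_mul_card_sylow 5 Q
  rw [h] at hN
  have hrel := relIndex_centralizer_normalizer_dvd_pred 5 (Q : Subgroup G) hcQ
  have hmul := card_centralizer_mul_relIndex (Q : Subgroup G)
  have hd1 : (Subgroup.centralizer ((Q : Subgroup G) : Set G)).relIndex
      (Subgroup.normalizer ((Q : Subgroup G) : Set G)) ≠ 1 := by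
    intro hd
    rw [Subgroup.relIndex_eq_one] at hd
    exact false_of_normalizer_le_centralizer hnc 5 hpG Q hd
  obtain ⟨w, hw⟩ := exists_prime_orderOf_dvd_card' (G := ↥(Q : Subgroup G)) 5
    (by rw [hcQ])
  have hwq : orderOf (w : G) = 5 := by rw [Subgroup.orderOf_coe]; exact hw
  have hc15 := card_centralizer_dvd_fifteen h (Q : Subgroup G) (w : G) w.2
    (by rw [hwq]; norm_num)
  have hle' : (Q : Subgroup G) ≤ Subgroup.centralizer ((Q : Subgroup G) : Set G) := by
    intro x hx
    rw [Subgroup.mem_centralizer_iff]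
    intro y hy
    have hcyc : IsCyclic (Q : Subgroup G) := isCyclic_of_prime_card hcQ
    have := (IsCyclic.isMulCommutative (α := ↥(Q : Subgroup G))).is_comm.comm ⟨y, hy⟩ ⟨x, hx⟩
    exact congrArg Subtype.val this
  have hpc : 5 ∣ Nat.card ↥(Subgroup.centralizer ((Q : Subgroup G) : Set G)) := by
    have := Subgroup.card_dvd_of_le hle'
    rwa [hcQ] at this
  set d := (Subgroup.centralizer ((Q : Subgroup G) : Set G)).relIndex
      (Subgroup.normalizer ((Q : Subgroup G) : Set G)) with hd
  set c := Nat.card ↥(Subgroup.centralizer ((Q : Subgroup G) : Set G)) with hc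
  set n := Nat.card (Sylow 5 G) with hn
  have hmod' : n % 5 = 1 := hmod
  have hcle : c ≤ 15 := Nat.le_of_dvd (by norm_num) hc15
  have hdle : d ≤ 4 := Nat.le_of_dvd (by norm_num) hrel
  have hcpos : 0 < c := Nat.pos_of_dvd_of_pos hc15 (by norm_num)
  have hdpos : 0 < d := Nat.pos_of_dvd_of_pos hrel (by norm_num)
  norm_num at hrel
  have hN' : c * d * n = 4080 := by rw [hmul]; exact hN
  clear_value c d n
  have hfin : c = 15 ∧ n = 136 := by
    interval_cases c <;> first | omega | (interval_cases d <;> omega)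
  exact ⟨hcQ, hfin.1, hfin.2⟩

/-- data of the Sylow 3-subgroups -/
theorem sylow3 (h : Nat.card G = 4080) [Fact (Nat.Prime 3)] (Q : Sylow 3 G) :
    Nat.card (Q : Subgroup G) = 3 ∧
    Nat.card (Subgroup.centralizer ((Q : Subgroup G) : Set G)) = 15 ∧
    Nat.card (Sylow 3 G) = 136 := by
  have hnc : ¬ IsMulCommutative G := not_isMulCommutative_of_simple (by rw [h]; norm_num)
  have h' : Nat.card G = 3 ^ 1 * 1360 := by rw [h]; norm_num
  have hm : ¬ 3 ∣ 1360 := by norm_num
  have hcQ : Nat.card ↥(Q : Subgroup G) = 3 := by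
    have := sylow_card_of_card_eq 3 1 1360 h' hm Q
    simpa using this
  have hmod := card_sylow_modEq_one 3 G
  have hpG : 3 ∣ Nat.card G := by rw [h]; norm_num
  have hN := card_normalizer_mul_card_sylow 3 Q
  rw [h] at hN
  have hrel := relIndex_centralizer_normalizer_dvd_pred 3 (Q : Subgroup G) hcQ
  have hmul := card_centralizer_mul_relIndex (Q : Subgroup G)
  have hd1 : (Subgroup.centralizer ((Q : Subgroup G) : Set G)).relIndex
      (Subgroup.normalizer ((Q : Subgroup G) : Set G)) ≠ 1 := by
    intro hd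
    rw [Subgroup.relIndex_eq_one] at hd
    exact false_of_normalizer_le_centralizer hnc 3 hpG Q hd
  obtain ⟨w, hw⟩ := exists_prime_orderOf_dvd_card' (G := ↥(Q : Subgroup G)) 3
    (by rw [hcQ])
  have hwq : orderOf (w : G) = 3 := by rw [Subgroup.orderOf_coe]; exact hw
  have hc15 := card_centralizer_dvd_fifteen h (Q : Subgroup G) (w : G) w.2
    (by rw [hwq]; norm_num)
  have hle' : (Q : Subgroup G) ≤ Subgroup.centralizer ((Q : Subgroup G) : Set G) := by
    intro x hx
    rw [Subgroup.mem_centralizer_iff]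
    intro y hy
    have hcyc : IsCyclic (Q : Subgroup G) := isCyclic_of_prime_card hcQ
    have := (IsCyclic.isMulCommutative (α := ↥(Q : Subgroup G))).is_comm.comm ⟨y, hy⟩ ⟨x, hx⟩
    exact congrArg Subtype.val this
  have hpc : 3 ∣ Nat.card ↥(Subgroup.centralizer ((Q : Subgroup G) : Set G)) := by
    have := Subgroup.card_dvd_of_le hle'
    rwa [hcQ] at this
  set d := (Subgroup.centralizer ((Q : Subgroup G) : Set G)).relIndex
      (Subgroup.normalizer ((Q : Subgroup G) : Set G)) with hd
  set c := Nat.card ↥(Subgroup.centralizer ((Q : Subgroup G) : Set G)) with hc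
  set n := Nat.card (Sylow 3 G) with hn
  have hmod' : n % 3 = 1 := hmod
  have hcle : c ≤ 15 := Nat.le_of_dvd (by norm_num) hc15
  have hdle : d ≤ 2 := Nat.le_of_dvd (by norm_num) hrel
  have hcpos : 0 < c := Nat.pos_of_dvd_of_pos hc15 (by norm_num)
  have hdpos : 0 < d := Nat.pos_of_dvd_of_pos hrel (by norm_num)
  norm_num at hrel
  have hN' : c * d * n = 4080 := by rw [hmul]; exact hN
  clear_value c d n
  have hfin : c = 15 ∧ n = 136 := by
    interval_cases c <;> first | omega | (interval_cases d <;> omega)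
  exact ⟨hcQ, hfin.1, hfin.2⟩

/-- an element of order 5 commutes with some element of order 3 -/
theorem exists_commute_three (h : Nat.card G = 4080) (a : G) (ha : orderOf a = 5) :
    ∃ w : G, orderOf w = 3 ∧ a * w = w * a := by
  have : Fact (Nat.Prime 5) := ⟨by norm_num⟩
  have : Fact (Nat.Prime 3) := ⟨by norm_num⟩
  have hgrp : IsPGroup 5 ↥(Subgroup.zpowers a) := by
    apply IsPGroup.of_card (n := 1)
    rw [Nat.card_zpowers, ha, pow_one]
  obtain ⟨Q, hQ⟩ := hgrp.exists_le_sylow
  obtain ⟨-, hcC, -⟩ := sylow5 h Q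
  obtain ⟨w, hw⟩ := exists_prime_orderOf_dvd_card'
    (G := ↥(Subgroup.centralizer ((Q : Subgroup G) : Set G))) 3 (by rw [hcC]; norm_num)
  refine ⟨(w : G), by rw [Subgroup.orderOf_coe]; exact hw, ?_⟩
  exact Subgroup.mem_centralizer_iff.mp w.2 a (hQ (Subgroup.mem_zpowers a))

/-- there are at least 1088 elements of order 15 -/
theorem card_order_fifteen_ge (h : Nat.card G = 4080) :
    1088 ≤ Nat.card {g : G // orderOf g = 15} := by
  classical
  have : Fact (Nat.Prime 5) := ⟨by norm_num⟩
  have h5 : Nat.card {g : G // orderOf g = 5} = 544 := by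
    rw [card_orderOf_eq_prime 5 (fun P => (sylow5 h P).1)]
    obtain ⟨P⟩ : Nonempty (Sylow 5 G) := inferInstance
    rw [(sylow5 h P).2.2]
  choose w hw3 hwc using fun a : {g : G // orderOf g = 5} => exists_commute_three h a.1 a.2
  have hord : ∀ (a : {g : G // orderOf g = 5}) (j : Fin 2),
      orderOf ((a : G) * w a ^ ((j : ℕ) + 1)) = 15 := by
    intro a j
    have hwj : orderOf (w a ^ ((j : ℕ) + 1)) = 3 := by
      rw [orderOf_pow' _ (by omega), hw3 a]
      fin_cases j <;> simp
    have hcomm : (a : G) * w a ^ ((j : ℕ) + 1) = w a ^ ((j : ℕ) + 1) * (a : G) :=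
      ((Commute.pow_right (hwc a) ((j : ℕ) + 1) : Commute (a : G) _)).eq
    rw [orderOf_mul_of_commute_coprime _ _ hcomm (by rw [a.2, hwj]; norm_num), a.2, hwj]
  let φ : {g : G // orderOf g = 5} × Fin 2 → {g : G // orderOf g = 15} :=
    fun x => ⟨(x.1 : G) * w x.1 ^ ((x.2 : ℕ) + 1), hord x.1 x.2⟩
  have hpow6 : ∀ (a : {g : G // orderOf g = 5}) (j : Fin 2),
      ((a : G) * w a ^ ((j : ℕ) + 1)) ^ 6 = (a : G) := by
    intro a j
    have hcomm : Commute (a : G) (w a ^ ((j : ℕ) + 1)) := Commute.pow_right (hwc a) _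
    rw [hcomm.mul_pow]
    have ha5 : (a : G) ^ 5 = 1 := by
      have := pow_orderOf_eq_one (a : G)
      rwa [a.2] at this
    have hw3' : w a ^ 3 = 1 := by rw [← hw3 a]; exact pow_orderOf_eq_one _
    have e1 : (a : G) ^ 6 = (a : G) := by rw [pow_succ, ha5, one_mul]
    have e2 : (w a ^ ((j : ℕ) + 1)) ^ 6 = 1 := by
      rw [← pow_mul, show ((j : ℕ) + 1) * 6 = 3 * (((j : ℕ) + 1) * 2) by ring, pow_mul, hw3',
        one_pow]
    rw [e1, e2, mul_one]
  have hinj : Function.Injective φ := by
    rintro ⟨a, j⟩ ⟨b, k⟩ hab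
    have hab' : (a : G) * w a ^ ((j : ℕ) + 1) = (b : G) * w b ^ ((k : ℕ) + 1) :=
      congrArg Subtype.val hab
    have e1 := hpow6 a j
    rw [hab', hpow6 b k] at e1
    have hba : b = a := Subtype.ext e1
    subst hba
    have e2 : w b ^ ((j : ℕ) + 1) = w b ^ ((k : ℕ) + 1) := mul_left_cancel hab'
    have hjk : j = k := by
      have hw1 : w b ≠ 1 := by
        intro h1
        have := hw3 b
        rw [h1, orderOf_one] at this
        omega
      have hw3' : w b ^ 3 = 1 := by rw [← hw3 b]; exact pow_orderOf_eq_one _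
      fin_cases j <;> fin_cases k
      · rfl
      · exfalso
        simp only [zero_add, pow_one, Nat.reduceAdd] at e2
        apply hw1
        have : w b * w b = w b * 1 := by rw [mul_one, ← pow_two]; exact e2.symm
        exact mul_left_cancel this
      · exfalso
        simp only [zero_add, pow_one, Nat.reduceAdd] at e2
        apply hw1
        have : w b * w b = w b * 1 := by rw [mul_one, ← pow_two]; exact e2
        exact mul_left_cancel this
      · rfl
    rw [hjk]
  have := Nat.card_le_card_of_injective φ hinj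
  rw [Nat.card_prod, h5, Nat.card_fin] at this
  omega

/-- a central involution of a Sylow 2-subgroup: its centralizer has order 16 -/
theorem exists_involution_card_centralizer (h : Nat.card G = 4080) :
    ∃ z : G, orderOf z = 2 ∧ Nat.card ↥(Subgroup.centralizer ({z} : Set G)) = 16 := by
  have : Fact (Nat.Prime 2) := ⟨by norm_num⟩
  obtain ⟨T⟩ : Nonempty (Sylow 2 G) := inferInstance
  have h' : Nat.card G = 2 ^ 4 * 255 := by rw [h]; norm_num
  have hcT : Nat.card ↥(T : Subgroup G) = 2 ^ 4 := sylow_card_of_card_eq 2 4 255 h' (by norm_num) T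
  obtain ⟨k, hk0, hk⟩ := IsPGroup.card_center_eq_prime_pow (p := 2) (G := ↥(T : Subgroup G))
    (n := 4) hcT (by norm_num)
  obtain ⟨z, hz⟩ := exists_prime_orderOf_dvd_card' (G := ↥(Subgroup.center ↥(T : Subgroup G))) 2
    (by rw [hk]; exact dvd_pow_self 2 hk0.ne')
  have hz2 : orderOf ((z : ↥(T : Subgroup G)) : G) = 2 := by
    rw [Subgroup.orderOf_coe, Subgroup.orderOf_coe]; exact hz
  refine ⟨((z : ↥(T : Subgroup G)) : G), hz2, ?_⟩
  have hTle : (T : Subgroup G) ≤
      Subgroup.centralizer ({((z : ↥(T : Subgroup G)) : G)} : Set G) := by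
    intro x hx
    rw [Subgroup.mem_centralizer_iff]
    intro y hy
    rw [Set.mem_singleton_iff] at hy
    subst hy
    have := Subgroup.mem_center_iff.mp z.2 ⟨x, hx⟩
    exact (congrArg Subtype.val this).symm
  have h1 : 16 ∣ Nat.card ↥(Subgroup.centralizer ({((z : ↥(T : Subgroup G)) : G)} : Set G)) := by
    have := Subgroup.card_dvd_of_le hTle
    rwa [hcT] at this
  have heq : Subgroup.centralizer ({((z : ↥(T : Subgroup G)) : G)} : Set G)
      = Subgroup.centralizer ((Subgroup.zpowers ((z : ↥(T : Subgroup G)) : G) : Subgroup G) : Set G) := by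
    rw [Subgroup.zpowers_eq_closure, Subgroup.centralizer_closure]
  have h2 := card_centralizer_dvd_sixteen h (Subgroup.zpowers ((z : ↥(T : Subgroup G)) : G))
    ((z : ↥(T : Subgroup G)) : G) (Subgroup.mem_zpowers _) hz2
  rw [← heq] at h2
  exact Nat.dvd_antisymm h2 h1

/-- every element of 2-power order is an involution or trivial -/
theorem sq_eq_one_of_two_element (h : Nat.card G = 4080) (c : G) (hc : orderOf c ∣ 16) :
    c ^ 2 = 1 := by
  classical
  have : Fact (Nat.Prime 17) := ⟨by norm_num⟩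
  have : Fact (Nat.Prime 5) := ⟨by norm_num⟩
  have : Fact (Nat.Prime 3) := ⟨by norm_num⟩
  have h17 : Nat.card {g : G // orderOf g = 17} = 1920 := by
    rw [card_orderOf_eq_prime 17 (fun P => (sylow17 h P).1)]
    obtain ⟨P⟩ : Nonempty (Sylow 17 G) := inferInstance
    rw [(sylow17 h P).2.2.2]
  have h5 : Nat.card {g : G // orderOf g = 5} = 544 := by
    rw [card_orderOf_eq_prime 5 (fun P => (sylow5 h P).1)]
    obtain ⟨P⟩ : Nonempty (Sylow 5 G) := inferInstance
    rw [(sylow5 h P).2.2]
  have h3 : Nat.card {g : G // orderOf g = 3} = 272 := by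
    rw [card_orderOf_eq_prime 3 (fun P => (sylow3 h P).1)]
    obtain ⟨P⟩ : Nonempty (Sylow 3 G) := inferInstance
    rw [(sylow3 h P).2.2]
  have h15 := card_order_fifteen_ge h
  have h1 : Nat.card {g : G // orderOf g = 1} = 1 := by
    have : {g : G // orderOf g = 1} ≃ Unit :=
      { toFun := fun _ => ()
        invFun := fun _ => ⟨1, orderOf_one⟩
        left_inv := fun g => Subtype.ext (orderOf_eq_one_iff.mp g.2).symm
        right_inv := fun _ => rfl }
    rw [Nat.card_congr this]
    simp
  obtain ⟨z, hz2, hzC⟩ := exists_involution_card_centralizer h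
  have hcl := card_isConj_mul_card_centralizer z
  rw [hzC, h] at hcl
  have hcl' : Nat.card {g : G // IsConj z g} = 255 := by omega
  have h2 : 255 ≤ Nat.card {g : G // orderOf g = 2} := by
    rw [← hcl']
    apply Nat.card_le_card_of_injective
      (fun g : {g : G // IsConj z g} => (⟨g.1, by
        obtain ⟨u, hu⟩ := g.2
        rw [← SemiconjBy.orderOf_eq (u : G) hu]
        exact hz2⟩ : {g : G // orderOf g = 2}))
    intro a b hab
    exact Subtype.ext (congrArg (fun x : {g : G // orderOf g = 2} => (x : G)) hab)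
  have hsum := sum_card_orderOf_le (G := G) ({1, 2, 3, 4, 5, 8, 15, 16, 17} : Finset ℕ)
  rw [h] at hsum
  simp only [Finset.mem_insert, Finset.mem_singleton, Finset.sum_insert, Finset.sum_singleton,
    OfNat.one_ne_ofNat, Nat.reduceEqDiff, or_self,
    not_false_eq_true] at hsum
  rw [h1, h3, h5, h17] at hsum
  have h4 : Nat.card {g : G // orderOf g = 4} = 0 := by omega
  have h8 : Nat.card {g : G // orderOf g = 8} = 0 := by omega
  have h16 : Nat.card {g : G // orderOf g = 16} = 0 := by omega
  have hle : orderOf c ≤ 16 := Nat.le_of_dvd (by norm_num) hc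
  have hpos : 0 < orderOf c := orderOf_pos c
  have hcases : orderOf c = 1 ∨ orderOf c = 2 ∨ orderOf c = 4 ∨ orderOf c = 8 ∨ orderOf c = 16 := by
    interval_cases (orderOf c) <;> simp_all
  rcases hcases with h' | h' | h' | h' | h'
  · rw [orderOf_eq_one_iff.mp h', one_pow]
  · rw [← h']; exact pow_orderOf_eq_one c
  · exfalso
    have : Nonempty {g : G // orderOf g = 4} := ⟨⟨c, h'⟩⟩
    have := Nat.card_pos (α := {g : G // orderOf g = 4})
    omega
  · exfalso
    have : Nonempty {g : G // orderOf g = 8} := ⟨⟨c, h'⟩⟩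
    have := Nat.card_pos (α := {g : G // orderOf g = 8})
    omega
  · exfalso
    have : Nonempty {g : G // orderOf g = 16} := ⟨⟨c, h'⟩⟩
    have := Nat.card_pos (α := {g : G // orderOf g = 16})
    omega

end Cfsg.Agent.Lib.Helper23.G4080
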